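import Groth.Agent.Lib.UCat.Universal
import Groth.Agent.Lib.Hens.Transfer
import Groth.Agent.Lib.Hens.Henselization
import Mathlib

/-! # Universal catenarity passes to henselizations and strict henselizations -/

set_option autoImplicit false
universe u v w

open IsLocalRing

namespace Groth.Agent.UCat

theorem isUniversallyCatenary_of_mvPolynomial (R : Type u) [CommRing R] [IsNoetherianRing R]
    (h : ∀ n : ℕ, CAlg.IsCatenary (MvPolynomial (Fin n) R)) : CAlg.IsUniversallyCatenary R := by
  refine ⟨inferInstance, fun S _ _ hft => ?_⟩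
  obtain ⟨n, f, hf⟩ := Algebra.FiniteType.iff_quotient_mvPolynomial''.mp hft
  have h' := Groth.Agent.S9125.result _ (RingHom.ker f.toRingHom) (h n)
  exact Groth.Agent.CAlgLow.isCatenary_of_orderEmbedding
    (PrimeSpectrum.comapEquiv (RingHom.quotientKerEquivOfSurjective (f := f.toRingHom) hf)).symm.toOrderEmbedding
    (by rw [OrderIso.coe_toOrderEmbedding, (PrimeSpectrum.comapEquiv _).symm.range_eq]; exact Set.ordConnected_univ) h'

/-- A Noetherian ring approximated by catenary rings through flat maps is catenary. -/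
theorem isCatenary_of_approx {T : Type u} [CommRing T] [IsNoetherianRing T] {ι : Type v}
    (C : ι → Type w) [∀ i, CommRing (C i)] (φ : ∀ i, C i →+* T)
    (hflat : ∀ i, (φ i).Flat) (hcat : ∀ i, CAlg.IsCatenary (C i))
    (hfin : ∀ s : Finset T, ∃ i, (s : Set T) ⊆ Set.range (φ i)) :
    CAlg.IsCatenary T := by
  classical
  choose gen hgen using fun a : PrimeSpectrum T => IsNoetherian.noetherian a.asIdeal
  refine ⟨fun a b hab => ?_, fun s t h0 h1 hs ht => ?_⟩
  · obtain ⟨N, hN⟩ : ∃ N : ℕ, (N : ℕ∞) = Order.height b := by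
      refine ENat.ne_top_iff_exists.mp ?_
      rw [← PrimeSpectrum.height_eq_orderHeight]
      exact Ideal.height_ne_top_of_isPrime
    refine ⟨N, fun s hs0 hs1 => ?_⟩
    have := Order.length_le_height (p := s) (x := b) hs1.le
    rw [← hN] at this
    exact_mod_cast this
  · obtain ⟨i, hi⟩ := hfin ((Finset.univ.biUnion fun j => gen (s j)) ∪ Finset.univ.biUnion fun j => gen (t j))
    let g : PrimeSpectrum T → PrimeSpectrum (C i) := PrimeSpectrum.comap (φ i)
    have hext : ∀ a : PrimeSpectrum T, (↑(gen a) : Set T) ⊆ Set.range (φ i) →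
        (g a).asIdeal.map (φ i) = a.asIdeal := by
      intro a ha
      refine le_antisymm Ideal.map_comap_le ?_
      rw [← hgen a]
      refine Submodule.span_le.mpr fun x hx => ?_
      obtain ⟨y, rfl⟩ := ha hx
      exact Ideal.mem_map_of_mem _ (show φ i y ∈ a.asIdeal from hgen a ▸ Submodule.subset_span hx)
    have hs' : ∀ j, (↑(gen (s j)) : Set T) ⊆ Set.range (φ i) := fun j x hx =>
      hi (Finset.mem_union_left _ (Finset.mem_biUnion.mpr ⟨j, Finset.mem_univ _, hx⟩))
    have ht' : ∀ j, (↑(gen (t j)) : Set T) ⊆ Set.range (φ i) := fun j x hx =>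
      hi (Finset.mem_union_right _ (Finset.mem_biUnion.mpr ⟨j, Finset.mem_univ _, hx⟩))
    have hlt : ∀ a b : PrimeSpectrum T, (↑(gen a) : Set T) ⊆ Set.range (φ i) →
        (↑(gen b) : Set T) ⊆ Set.range (φ i) → a < b → g a < g b := by
      intro a b ha hb hab
      refine lt_of_le_of_ne (Ideal.comap_mono hab.le) fun e => hab.ne (PrimeSpectrum.ext ?_)
      rw [← hext a ha, ← hext b hb, e]
    have hcov : ∀ a b : PrimeSpectrum T, (↑(gen a) : Set T) ⊆ Set.range (φ i) →
        (↑(gen b) : Set T) ⊆ Set.range (φ i) → a ⋖ b → g a ⋖ g b := by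
      intro a b ha hb hab
      refine ⟨hlt a b ha hb hab.lt, fun c hc1 hc2 => ?_⟩
      letI := (φ i).toAlgebra
      haveI : Module.Flat (C i) T := hflat i
      haveI : b.asIdeal.LiesOver (g b).asIdeal := ⟨rfl⟩
      obtain ⟨R, hR, hRp, hRc⟩ := Ideal.exists_ideal_le_liesOver_of_le (R := C i) b.asIdeal
        (p := c.asIdeal) (q := (g b).asIdeal) hc2.le
      let R' : PrimeSpectrum T := ⟨R, hRp⟩
      have hR' : g R' = c := PrimeSpectrum.ext hRc.over.symm
      have haR : a ≤ R' := by
        show a.asIdeal ≤ R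
        rw [← hext a ha]
        exact Ideal.map_le_iff_le_comap.mpr ((show (g a).asIdeal ≤ c.asIdeal from hc1.le).trans hRc.over.le)
      exact hab.2 (c := R') (lt_of_le_of_ne haR fun e => hc1.ne (by rw [e, hR']))
        (lt_of_le_of_ne hR fun e => hc2.ne (by rw [← hR', e]))
    exact (hcat i).2 ⟨s.length, g ∘ s, fun j => hlt _ _ (hs' _) (hs' _) (s.step j)⟩
      ⟨t.length, g ∘ t, fun j => hlt _ _ (ht' _) (ht' _) (t.step j)⟩ (congrArg g h0) (congrArg g h1)
      (fun j => hcov _ _ (hs' _) (hs' _) (hs j)) (fun j => hcov _ _ (ht' _) (ht' _) (ht j))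

attribute [local instance] MvPolynomial.algebraMvPolynomial

/-- Colimits of étale neighbourhoods keep universal catenarity. -/
theorem isUniversallyCatenary_hs {R : Type u} [CommRing R] {K : Type u} [Field K] [Algebra R K]
    [IsNoetherianRing (Hens.Hs R K)] [Module.Flat R (Hens.Hs R K)] (hR : CAlg.IsUniversallyCatenary R) :
    CAlg.IsUniversallyCatenary (Hens.Hs R K) := by
  classical
  haveI := hR.1
  refine isUniversallyCatenary_of_mvPolynomial _ fun n => ?_
  letI : ∀ i : Hens.Nbhd R K, CommRing i.G := fun i => inferInstance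
  refine isCatenary_of_approx (ι := Hens.Nbhd R K) (fun i => MvPolynomial (Fin n) i.G)
    (fun i => MvPolynomial.map (Hens.Hs.of i).toRingHom) (fun i => ?_) (fun i => ?_) ?_
  · letI : Algebra i.G (Hens.Hs R K) := (Hens.Hs.of i).toRingHom.toAlgebra
    haveI : IsScalarTower R i.G (Hens.Hs R K) :=
      IsScalarTower.of_algebraMap_eq fun r => ((Hens.Hs.of i).commutes r).symm
    haveI : Module.Flat i.G (Hens.Hs R K) := Algebra.FormallyUnramified.flat_of_restrictScalars R i.G _
    have : Module.Flat (MvPolynomial (Fin n) i.G) (MvPolynomial (Fin n) (Hens.Hs R K)) :=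
      Module.Flat.of_linearEquiv (Algebra.IsPushout.equiv i.G (MvPolynomial (Fin n) i.G) (Hens.Hs R K)
        (MvPolynomial (Fin n) (Hens.Hs R K))).toLinearEquiv.symm
    exact RingHom.flat_algebraMap_iff.mpr this
  · exact (isUniversallyCatenary_of_essFiniteType R i.G hR).2 _ inferInstance
  · intro s
    obtain ⟨i, hi⟩ := Hens.Hs.exists_of_finset (s.biUnion fun x => x.support.image x.coeff) id
    refine ⟨i, fun x hx => ?_⟩
    rw [MvPolynomial.mem_range_map_iff_coeffs_subset]
    intro z hz
    rw [Finset.mem_coe, MvPolynomial.mem_coeffs_iff] at hz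
    obtain ⟨d, hd, rfl⟩ := hz
    exact hi _ (Finset.mem_biUnion.mpr ⟨x, hx, Finset.mem_image_of_mem _ hd⟩)

theorem isUniversallyCatenary_of_ringEquiv {R S : Type u} [CommRing R] [CommRing S] (e : R ≃+* S)
    (h : CAlg.IsUniversallyCatenary R) : CAlg.IsUniversallyCatenary S :=
  isUniversallyCatenary_of_surjective e.toRingHom e.surjective h

theorem henselization_isUniversallyCatenary (R S : Type u) [CommRing R] [IsLocalRing R] [CommRing S]
    [IsLocalRing S] [Algebra R S] [IsLocalHom (algebraMap R S)] [Hensel.IsHenselization R S]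
    (h : CAlg.IsUniversallyCatenary R) : CAlg.IsUniversallyCatenary S :=
  haveI := h.1
  let ⟨e⟩ := Hens.exists_henselization_equiv R S
  isUniversallyCatenary_of_ringEquiv e.toRingEquiv (isUniversallyCatenary_hs h)

theorem strictHenselization_isUniversallyCatenary (R S : Type u) [CommRing R] [IsLocalRing R] [CommRing S]
    [IsLocalRing S] [Algebra R S] [IsLocalHom (algebraMap R S)] [Hensel.IsStrictHenselization R S]
    (h : CAlg.IsUniversallyCatenary R) : CAlg.IsUniversallyCatenary S :=
  haveI := h.1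
  let ⟨e⟩ := Hens.exists_strictHenselization_equiv R S
  isUniversallyCatenary_of_ringEquiv e.toRingEquiv (isUniversallyCatenary_hs h)

end Groth.Agent.UCat
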