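import Groth.Agent.Lib.UCat.Grading
import Groth.Agent.Lib.FlatDepth.CMTensor
import Groth.Agent.Lib.FlatDepth.CM
import Groth.Agent.Lib.Cohen.Structure
import Groth.Agent.Lib.RegLoc.GlobalDim
import Groth.Agent.S9124
import Groth.Agent.S9125
import Mathlib

/-! # Cohen-Macaulay rings are universally catenary -/

set_option autoImplicit false
universe u

open TensorProduct

namespace Groth.Agent.UCat

theorem isCM_of_regular (R : Type u) [CommRing R] [IsRegularRing R] : LocCoh.IsCohenMacaulayRing R :=
  (FlatDepth.cohenMacaulayRing_iff R).mpr fun k => (FlatDepth.hasSk_self_iff k R).mpr fun q _ =>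
    FlatDepth.skIneq_localization_of_regular k q

theorem isCM_mvPolynomial (R : Type u) [CommRing R] [hR : LocCoh.IsCohenMacaulayRing R] (n : ℕ) :
    LocCoh.IsCohenMacaulayRing (MvPolynomial (Fin n) R) := by
  haveI : IsNoetherianRing R := inferInstance
  refine (FlatDepth.cohenMacaulayRing_iff _).mpr fun k => (FlatDepth.hasSk_self_iff k _).mpr fun q _ => ?_
  refine FlatDepth.skIneq_of_fibre (A := R) k q ?_ (FlatDepth.skIneq_fibLocRing (fun p _ => ?_) q)
  · exact (FlatDepth.hasSk_self_iff k R).mp ((FlatDepth.cohenMacaulayRing_iff R).mp hR k) _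
  · haveI : IsRegularRing (p.Fiber (MvPolynomial (Fin n) R)) := IsRegularRing.of_ringEquiv
      (MvPolynomial.algebraTensorAlgEquiv R p.ResidueField (σ := Fin n)).symm.toRingEquiv
    haveI := isCM_of_regular (p.Fiber (MvPolynomial (Fin n) R))
    exact (FlatDepth.cohenMacaulayRing_iff _).mp inferInstance k

theorem isUniversallyCatenary_of_cm (R : Type u) [CommRing R] [LocCoh.IsCohenMacaulayRing R] :
    CAlg.IsUniversallyCatenary R := by
  refine ⟨inferInstance, fun S _ _ hft => ?_⟩
  obtain ⟨n, f, hf⟩ := Algebra.FiniteType.iff_quotient_mvPolynomial''.mp hft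
  haveI := isCM_mvPolynomial R n
  have h := Groth.Agent.S9125.result _ (RingHom.ker f.toRingHom) (isCatenary_of_cm (MvPolynomial (Fin n) R))
  exact Groth.Agent.CAlgLow.isCatenary_of_orderEmbedding
    (PrimeSpectrum.comapEquiv (RingHom.quotientKerEquivOfSurjective (f := f.toRingHom) hf)).symm.toOrderEmbedding
    (by rw [OrderIso.coe_toOrderEmbedding, (PrimeSpectrum.comapEquiv _).symm.range_eq]; exact Set.ordConnected_univ) h

theorem isUniversallyCatenary_of_surjective {R A : Type u} [CommRing R] [CommRing A] (f : R →+* A)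
    (hf : Function.Surjective f) (hR : CAlg.IsUniversallyCatenary R) : CAlg.IsUniversallyCatenary A := by
  haveI := hR.1
  refine ⟨isNoetherianRing_of_surjective R A f hf, fun S _ _ hft => ?_⟩
  letI : Algebra R S := ((algebraMap A S).comp f).toAlgebra
  letI : Algebra R A := f.toAlgebra
  haveI : IsScalarTower R A S := IsScalarTower.of_algebraMap_eq fun _ => rfl
  haveI : Algebra.FiniteType R A := Algebra.FiniteType.of_surjective (Algebra.ofId R A) hf
  haveI := hft
  exact hR.2 S (Algebra.FiniteType.trans (S := A) inferInstance hft)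

theorem isUniversallyCatenary_of_complete (A : Type u) [CommRing A] [IsLocalRing A] [IsNoetherianRing A]
    [IsAdicComplete (IsLocalRing.maximalIdeal A) A] : CAlg.IsUniversallyCatenary A := by
  obtain ⟨R, i1, i2, f, hf⟩ := Cohen.exists_regular_surjection A
  haveI : IsRegularRing R := isRegularRing_iff.mpr fun p _ => RegLoc.isRegularLocalRing_localization R p
  haveI := isCM_of_regular R
  exact isUniversallyCatenary_of_surjective f hf (isUniversallyCatenary_of_cm R)

theorem isUniversallyCatenary_of_essFiniteType (A B : Type u) [CommRing A] [CommRing B] [Algebra A B]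
    [Algebra.EssFiniteType A B] (hA : CAlg.IsUniversallyCatenary A) : CAlg.IsUniversallyCatenary B := by
  haveI := hA.1
  refine ⟨Algebra.EssFiniteType.isNoetherianRing A B, fun S _ _ hft => ?_⟩
  letI : Algebra A S := ((algebraMap B S).comp (algebraMap A B)).toAlgebra
  haveI : IsScalarTower A B S := IsScalarTower.of_algebraMap_eq fun _ => rfl
  haveI := hft
  haveI : Algebra.EssFiniteType A S := Algebra.EssFiniteType.comp A B S
  exact Groth.Agent.S9124.result (Algebra.EssFiniteType.subalgebra A S) (Algebra.EssFiniteType.submonoid A S) S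
    (hA.2 _ inferInstance)

end Groth.Agent.UCat

namespace Groth.Agent.UCat

theorem isCatenary_of_isUniversallyCatenary {R : Type u} [CommRing R] (h : CAlg.IsUniversallyCatenary R) :
    CAlg.IsCatenary R :=
  h.2 R inferInstance

end Groth.Agent.UCat
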