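import Groth.Agent.Lib.UCat.Completion
import Groth.Agent.S0552
import Mathlib

/-! # Formally catenary local rings are universally catenary -/

set_option autoImplicit false
universe u

open IsLocalRing Order TensorProduct

namespace Groth.Agent.UCat

theorem exists_covBy_le {B : Type u} [CommRing B] [IsNoetherianRing B] {r q : PrimeSpectrum B} (h : r < q) :
    ∃ r', r ⋖ r' ∧ r' ≤ q := by
  obtain ⟨t, htq, htr⟩ := SetLike.exists_of_lt (show r.asIdeal < q.asIdeal from h)
  obtain ⟨P, hP, hPq⟩ := Ideal.exists_minimalPrimes_le (sup_le (show r.asIdeal ≤ q.asIdeal from h.le)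
    ((Ideal.span_singleton_le_iff_mem _).mpr htq))
  exact ⟨⟨P, hP.isPrime⟩, Hironaka.covBy_of_mem_minimalPrimes htr hP, hPq⟩

/-- An algebra over an equidimensional catenary local ring in which primes extend to primes is equidimensional. -/
theorem isEquidim_of_extend {B T : Type u} [CommRing B] [IsLocalRing B] [IsNoetherianRing B]
    [CommRing T] [IsLocalRing T] [IsNoetherianRing T] [Algebra B T]
    (hBe : EGA4.IsEquidim B) (hB : CAlg.IsCatenary B) (hT : CAlg.IsCatenary T) (q : PrimeSpectrum B)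
    (hq : ∀ x : PrimeSpectrum T, x.asIdeal.comap (algebraMap B T) ≤ q.asIdeal)
    (hext : ∀ r : Ideal B, r.IsPrime → r ≤ q.asIdeal →
      (r.map (algebraMap B T)).IsPrime ∧ (r.map (algebraMap B T)).comap (algebraMap B T) = r) :
    EGA4.IsEquidim T := by
  let μ : {r : PrimeSpectrum B // r ≤ q} → PrimeSpectrum T := fun r =>
    ⟨r.1.asIdeal.map (algebraMap B T), (hext _ r.1.2 r.2).1⟩
  have key : ∀ n : ℕ, ∀ r : {r : PrimeSpectrum B // r ≤ q}, Order.coheight r.1 ≤ n →
      Order.coheight (μ r) + Order.coheight q = Order.coheight r.1 + Order.coheight (μ ⟨q, le_rfl⟩) := by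
    intro n
    induction n with
    | zero =>
      intro r hr
      obtain rfl : r = ⟨q, le_rfl⟩ := by
        refine Subtype.ext (r.2.eq_or_lt.resolve_right fun hlt => ?_)
        have := lt_of_le_of_lt bot_le (Order.coheight_strictAnti hlt (Hironaka.coheight_ne_top q).lt_top)
        exact absurd hr (not_le.mpr (by exact_mod_cast this))
      exact add_comm _ _
    | succ n ih =>
      intro r hr
      rcases r.2.eq_or_lt with e | hlt
      · obtain rfl : r = ⟨q, le_rfl⟩ := Subtype.ext e
        exact add_comm _ _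
      obtain ⟨r', hcov, hle⟩ := exists_covBy_le hlt
      have h1 := Hironaka.coheight_eq_add_one hB hcov
      obtain ⟨t, htr', htr⟩ := SetLike.exists_of_lt (show r.1.asIdeal < r'.asIdeal from hcov.lt)
      have hc := (hext _ r.1.2 r.2).2
      have hc' := (hext _ r'.2 hle).2
      have hcovT : μ r ⋖ μ ⟨r', hle⟩ := by
        refine Hironaka.covBy_of_mem_minimalPrimes (t := algebraMap B T t)
          (fun hmem => htr (hc ▸ hmem)) ⟨⟨(μ ⟨r', hle⟩).2, sup_le (Ideal.map_mono hcov.le) ?_⟩, fun Q hQ hQle => ?_⟩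
        · exact (Ideal.span_singleton_le_iff_mem _).mpr (Ideal.mem_map_of_mem _ htr')
        haveI := hQ.1
        show r'.asIdeal.map (algebraMap B T) ≤ Q
        rw [Ideal.map_le_iff_le_comap]
        let c : PrimeSpectrum B := ⟨Q.comap (algebraMap B T), inferInstance⟩
        by_contra hne
        refine hcov.2 (c := c) (lt_of_le_of_ne ?_ fun e => htr ?_) (lt_of_le_of_ne ?_ fun e => hne ?_)
        · exact Ideal.map_le_iff_le_comap.mp (le_sup_left.trans hQ.2)
        · rw [show r.1.asIdeal = Q.comap (algebraMap B T) from congrArg PrimeSpectrum.asIdeal e]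
          exact hQ.2 (Ideal.mem_sup_right (Ideal.mem_span_singleton_self _))
        · show Q.comap (algebraMap B T) ≤ r'.asIdeal
          rw [← hc']
          exact Ideal.comap_mono hQle
        · exact (congrArg PrimeSpectrum.asIdeal e).ge
      have h2 := Hironaka.coheight_eq_add_one hT hcovT
      have hr' : Order.coheight r' ≤ n := by
        rw [h1, Nat.cast_add, Nat.cast_one] at hr
        exact (ENat.add_le_add_iff_right ENat.one_ne_top).mp hr
      rw [h2, h1, add_right_comm, ih ⟨r', hle⟩ hr', add_right_comm]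
  obtain ⟨D, hD, hsum⟩ := height_add_coheight hBe hB
  have hmin : ∀ x ∈ minimalPrimes T, ∃ r : {r : PrimeSpectrum B // r ≤ q},
      (μ r).asIdeal = x ∧ Order.coheight r.1 = D := by
    intro x hx
    haveI := hx.isPrime
    have hle := hq ⟨x, hx.isPrime⟩
    let r : {r : PrimeSpectrum B // r ≤ q} := ⟨⟨x.comap (algebraMap B T), inferInstance⟩, hle⟩
    have hμx : (μ r).asIdeal = x := le_antisymm Ideal.map_comap_le (hx.2 ⟨(μ r).2, bot_le⟩ Ideal.map_comap_le)
    refine ⟨r, hμx, ?_⟩
    have hrmin : r.1.asIdeal ∈ minimalPrimes B := by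
      refine ⟨⟨r.1.2, bot_le⟩, fun p hp hpr => ?_⟩
      have h1 := hext p hp.1 (hpr.trans hle)
      have h2 := hx.2 ⟨h1.1, bot_le⟩ ((Ideal.map_mono hpr).trans Ideal.map_comap_le)
      exact (Ideal.comap_mono h2).trans h1.2.le
    have h0 : Order.height r.1 = 0 := by
      rw [← PrimeSpectrum.height_eq_orderHeight, Ideal.height_eq_zero_iff.mpr hrmin]
    have := hsum r.1
    rwa [h0, zero_add] at this
  obtain ⟨m, hm⟩ := ENat.ne_top_iff_exists.mp (Hironaka.coheight_ne_top (μ ⟨q, le_rfl⟩))
  obtain ⟨c, hc⟩ := ENat.ne_top_iff_exists.mp (Hironaka.coheight_ne_top q)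
  have hdim : ∀ x ∈ minimalPrimes T, ringKrullDim (T ⧸ x) = ((D + m - c : ℕ) : WithBot ℕ∞) := by
    intro x hx
    obtain ⟨r, hrx, hrD⟩ := hmin x hx
    obtain ⟨a, ha⟩ := ENat.ne_top_iff_exists.mp (Hironaka.coheight_ne_top (μ r))
    have h := key D r hrD.le
    rw [hrD, ← ha, ← hm, ← hc] at h
    norm_cast at h
    rw [← hrx, ← Hironaka.coheight_eq_ringKrullDim_quotient, ← ha, show D + m - c = a by omega]
    rfl
  intro x hx
  rw [hdim x hx]
  have h := ringKrullDim_quotient_eq_of_forall (I := (⊥ : Ideal T)) bot_ne_top hdim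
  rw [← h]
  exact ringKrullDim_eq_of_ringEquiv (RingEquiv.quotientBot T)

theorem map_C_isPrime {R : Type u} [CommRing R] (n : ℕ) (r : Ideal R) [r.IsPrime] :
    (r.map (MvPolynomial.C : R →+* MvPolynomial (Fin n) R)).IsPrime := by
  have : IsDomain (MvPolynomial (Fin n) R ⧸ r.map (MvPolynomial.C : R →+* MvPolynomial (Fin n) R)) :=
    MulEquiv.isDomain (MvPolynomial (Fin n) (R ⧸ r))
      (MvPolynomial.quotientEquivQuotientMvPolynomial r).symm.toMulEquiv
  exact (Ideal.Quotient.isDomain_iff_prime _).mp this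

attribute [local instance] MvPolynomial.algebraMvPolynomial

/-- Polynomial rings over a formally equidimensional local ring are catenary. -/
theorem isCatenary_mvPolynomial_of_formallyEquidim (A : Type u) [CommRing A] [IsNoetherianRing A] [IsLocalRing A]
    (h : EGA4.IsFormallyEquidim A) (n : ℕ) : CAlg.IsCatenary (MvPolynomial (Fin n) A) := by
  haveI := CplLocH7.isNoetherianRing_cpl A
  haveI := CplLocH7.faithfullyFlat_cpl A
  haveI : Module.FaithfullyFlat (MvPolynomial (Fin n) A) (MvPolynomial (Fin n) (EGA4.Cpl A)) :=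
    Module.FaithfullyFlat.of_linearEquiv _ _ (Algebra.IsPushout.equiv A (MvPolynomial (Fin n) A) (EGA4.Cpl A)
      (MvPolynomial (Fin n) (EGA4.Cpl A))).toLinearEquiv.symm
  haveI : IsAdicComplete (maximalIdeal (EGA4.Cpl A)) (EGA4.Cpl A) := inferInstance
  have hU := isUniversallyCatenary_of_complete (EGA4.Cpl A)
  have hRcat : CAlg.IsCatenary (MvPolynomial (Fin n) (EGA4.Cpl A)) := hU.2 _ inferInstance
  refine (Groth.Agent.S0552.result _).2 fun Q hQ => ?_
  obtain ⟨⟨Q', hQ'⟩, he⟩ := PrimeSpectrum.comap_surjective_of_faithfullyFlat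
    (A := MvPolynomial (Fin n) A) (B := MvPolynomial (Fin n) (EGA4.Cpl A)) ⟨Q, hQ.isPrime⟩
  haveI := hQ'
  obtain rfl : Q'.comap (algebraMap (MvPolynomial (Fin n) A) (MvPolynomial (Fin n) (EGA4.Cpl A))) = Q :=
    congrArg PrimeSpectrum.asIdeal he
  let p := Q'.comap (algebraMap (MvPolynomial (Fin n) A) (MvPolynomial (Fin n) (EGA4.Cpl A)))
  haveI : Q'.LiesOver p := ⟨rfl⟩
  letI := Localization.AtPrime.algebraOfLiesOver p Q'
  haveI : IsScalarTower (MvPolynomial (Fin n) A) (Localization.AtPrime p) (Localization.AtPrime Q') :=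
    .of_algebraMap_eq fun a => by
      rw [show algebraMap (Localization.AtPrime p) (Localization.AtPrime Q') =
        Localization.localRingHom p Q' (algebraMap _ _) rfl from rfl,
        Localization.localRingHom_to_map, ← IsScalarTower.algebraMap_apply]
  haveI : IsLocalHom (algebraMap (Localization.AtPrime p) (Localization.AtPrime Q')) :=
    Localization.isLocalHom_localRingHom p Q' (algebraMap _ _) rfl
  haveI : Module.Flat (Localization.AtPrime p) (Localization.AtPrime Q') :=
    (Module.flat_iff_of_isLocalization (Localization.AtPrime p) p.primeCompl (Localization.AtPrime Q')).2 inferInstance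
  have hTcat : CAlg.IsCatenary (Localization.AtPrime Q') :=
    Groth.Agent.S9124.result _ Q'.primeCompl (Localization.AtPrime Q') hRcat
  refine (isEquidim_and_isCatenary_of_flat (A := Localization.AtPrime p) (B := Localization.AtPrime Q') ?_ hTcat).2
  let q : PrimeSpectrum (EGA4.Cpl A) := ⟨Q'.comap (algebraMap (EGA4.Cpl A) (MvPolynomial (Fin n) (EGA4.Cpl A))), inferInstance⟩
  refine isEquidim_of_extend h (isCatenary_cpl A) hTcat q (fun x => ?_) fun r hr hrq => ?_
  · intro a ha
    show algebraMap (EGA4.Cpl A) (MvPolynomial (Fin n) (EGA4.Cpl A)) a ∈ Q'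
    by_contra hna
    refine x.2.ne_top (Ideal.eq_top_of_isUnit_mem _ ha ?_)
    rw [IsScalarTower.algebraMap_apply (EGA4.Cpl A) (MvPolynomial (Fin n) (EGA4.Cpl A)) (Localization.AtPrime Q')]
    exact IsLocalization.map_units (Localization.AtPrime Q') (⟨_, hna⟩ : Q'.primeCompl)
  · haveI := hr
    haveI hP : (r.map (algebraMap (EGA4.Cpl A) (MvPolynomial (Fin n) (EGA4.Cpl A)))).IsPrime := map_C_isPrime n r
    have hle : r.map (algebraMap (EGA4.Cpl A) (MvPolynomial (Fin n) (EGA4.Cpl A))) ≤ Q' :=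
      Ideal.map_le_iff_le_comap.mpr hrq
    have hd : Disjoint (Q'.primeCompl : Set (MvPolynomial (Fin n) (EGA4.Cpl A)))
        (r.map (algebraMap (EGA4.Cpl A) (MvPolynomial (Fin n) (EGA4.Cpl A))) : Set _) :=
      Set.disjoint_left.mpr fun a ha hap => ha (hle hap)
    rw [IsScalarTower.algebraMap_eq (EGA4.Cpl A) (MvPolynomial (Fin n) (EGA4.Cpl A)) (Localization.AtPrime Q'),
      ← Ideal.map_map]
    refine ⟨IsLocalization.isPrime_of_isPrime_disjoint Q'.primeCompl _ _ hP hd, ?_⟩
    rw [← Ideal.comap_comap]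
    refine le_antisymm (fun a ha => ?_) (fun a ha => ?_)
    · rw [Ideal.mem_comap] at ha
      have h1 : algebraMap (EGA4.Cpl A) (MvPolynomial (Fin n) (EGA4.Cpl A)) a ∈
          r.map (algebraMap (EGA4.Cpl A) (MvPolynomial (Fin n) (EGA4.Cpl A))) := by
        rw [← IsLocalization.under_map_of_isPrime_disjoint Q'.primeCompl (Localization.AtPrime Q') hP hd]
        exact ha
      rw [MvPolynomial.algebraMap_eq] at h1
      simpa using (MvPolynomial.mem_map_C_iff.mp h1) 0
    · rw [Ideal.mem_comap, Ideal.mem_comap]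
      exact Ideal.mem_map_of_mem _ (Ideal.mem_map_of_mem _ ha)

/-- EGA IV 7.1.11 (ii) ⇒ universally catenary. -/
theorem isUniversallyCatenary_of_formallyCatenary (A : Type u) [CommRing A] [IsNoetherianRing A] [IsLocalRing A]
    (hA : EGA4.IsFormallyCatenary A) : CAlg.IsUniversallyCatenary A := by
  refine ⟨inferInstance, fun S _ _ hft => ?_⟩
  obtain ⟨n, f, hf⟩ := Algebra.FiniteType.iff_quotient_mvPolynomial''.mp hft
  -- transport chains to the polynomial ring over a quotient domain
  let φ : ∀ p : Ideal A, MvPolynomial (Fin n) A →+* MvPolynomial (Fin n) (A ⧸ p) := fun p =>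
    MvPolynomial.map (Ideal.Quotient.mk p)
  have hφ : ∀ p : Ideal A, Function.Surjective (φ p) := fun p =>
    MvPolynomial.map_surjective _ Ideal.Quotient.mk_surjective
  let g : PrimeSpectrum S → PrimeSpectrum (MvPolynomial (Fin n) A) := PrimeSpectrum.comap f.toRingHom
  have hgmono : StrictMono g := fun a b hab => lt_of_le_of_ne (Ideal.comap_mono hab.le) fun e =>
    hab.ne (PrimeSpectrum.comap_injective_of_surjective f.toRingHom hf e)
  have hgcov : ∀ a b, a ⋖ b → g a ⋖ g b := fun a b hab => ⟨hgmono hab.lt, fun c hc1 hc2 => by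
    have hker : RingHom.ker f.toRingHom ≤ c.asIdeal := fun x hx => hc1.le (show f.toRingHom x ∈ a.asIdeal by
      rw [RingHom.mem_ker.mp hx]; exact a.asIdeal.zero_mem)
    let c' : PrimeSpectrum S := ⟨c.asIdeal.map f.toRingHom, Ideal.map_isPrime_of_surjective hf hker⟩
    have hc' : g c' = c := PrimeSpectrum.ext (by
      show (c.asIdeal.map f.toRingHom).comap f.toRingHom = c.asIdeal
      rw [Ideal.comap_map_of_surjective f.toRingHom hf, ← RingHom.ker_eq_comap_bot, sup_eq_left.mpr hker])
    refine hab.2 (c := c') (lt_of_le_of_ne ?_ fun e => ?_) (lt_of_le_of_ne ?_ fun e => ?_)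
    · exact fun x hx => by
        obtain ⟨y, rfl⟩ := hf x
        exact Ideal.mem_map_of_mem f.toRingHom (hc1.le hx)
    · exact hc1.ne (by rw [e, hc'])
    · exact Ideal.map_le_iff_le_comap.mpr hc2.le
    · exact hc2.ne (by rw [← hc', e])⟩
  have hp : ∀ (a : PrimeSpectrum (MvPolynomial (Fin n) A)), ∃ G : PrimeSpectrum (MvPolynomial (Fin n) (A ⧸ a.asIdeal.comap MvPolynomial.C)) ↪o PrimeSpectrum (MvPolynomial (Fin n) A),
      CAlg.IsCatenary (MvPolynomial (Fin n) (A ⧸ a.asIdeal.comap MvPolynomial.C)) ∧ ∀ b, a ≤ b → b ∈ Set.range G := by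
    intro a
    let p := a.asIdeal.comap MvPolynomial.C
    refine ⟨OrderEmbedding.ofMapLEIff (PrimeSpectrum.comap (φ p)) fun x y => ⟨fun hxy z hz => ?_, fun hxy => Ideal.comap_mono hxy⟩,
      isCatenary_mvPolynomial_of_formallyEquidim (A ⧸ p) (hA p) n, fun b hab => ?_⟩
    · obtain ⟨w, rfl⟩ := hφ p z
      exact hxy hz
    · have hker : RingHom.ker (φ p) ≤ b.asIdeal := by
        show RingHom.ker (MvPolynomial.map (Ideal.Quotient.mk p)) ≤ _
        rw [MvPolynomial.ker_map, Ideal.mk_ker, Ideal.map_le_iff_le_comap]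
        exact Ideal.comap_mono hab
      exact ⟨⟨b.asIdeal.map (φ p), Ideal.map_isPrime_of_surjective (hφ p) hker⟩, PrimeSpectrum.ext (by
        show (b.asIdeal.map (φ p)).comap (φ p) = b.asIdeal
        rw [Ideal.comap_map_of_surjective _ (hφ p), ← RingHom.ker_eq_comap_bot, sup_eq_left.mpr hker])⟩
  refine ⟨fun a b hab => ?_, fun s t h0 h1 hs ht => ?_⟩
  · obtain ⟨G, hG, hrange⟩ := hp (g a)
    obtain ⟨a', ha'⟩ := hrange (g a) le_rfl
    obtain ⟨b', hb'⟩ := hrange (g b) (hgmono.monotone hab)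
    obtain ⟨N, hN⟩ := hG.1 a' b' (G.le_iff_le.mp (by rw [ha', hb']; exact hgmono.monotone hab))
    refine ⟨N, fun s hs0 hs1 => ?_⟩
    have hmem : ∀ i, g (s i) ∈ Set.range G := fun i => hrange _ (hgmono.monotone (hs0 ▸ s.monotone (Fin.zero_le i)))
    choose c hc using hmem
    let s' : LTSeries (PrimeSpectrum (MvPolynomial (Fin n) (A ⧸ (g a).asIdeal.comap MvPolynomial.C))) :=
      ⟨s.length, c, fun i => G.lt_iff_lt.mp (by rw [hc, hc]; exact hgmono (s.step i))⟩
    exact hN s' (G.injective ((hc 0).trans (by rw [ha']; exact congrArg g hs0)))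
      (G.injective ((hc (Fin.last _)).trans (by rw [hb']; exact congrArg g hs1)))
  · obtain ⟨G, hG, hrange⟩ := hp (g s.head)
    have hmem : ∀ i, g (s i) ∈ Set.range G := fun i => hrange _ (hgmono.monotone (s.monotone (Fin.zero_le i)))
    have hmem' : ∀ i, g (t i) ∈ Set.range G := fun i => hrange _ (hgmono.monotone (h0 ▸ t.monotone (Fin.zero_le i)))
    choose c hc using hmem
    choose d hd using hmem'
    let s' : LTSeries (PrimeSpectrum (MvPolynomial (Fin n) (A ⧸ (g s.head).asIdeal.comap MvPolynomial.C))) :=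
      ⟨s.length, c, fun i => G.lt_iff_lt.mp (by rw [hc, hc]; exact hgmono (s.step i))⟩
    let t' : LTSeries (PrimeSpectrum (MvPolynomial (Fin n) (A ⧸ (g s.head).asIdeal.comap MvPolynomial.C))) :=
      ⟨t.length, d, fun i => G.lt_iff_lt.mp (by rw [hd, hd]; exact hgmono (t.step i))⟩
    have hpull : ∀ {x y}, G x ⋖ G y → x ⋖ y := fun {x y} hxy =>
      ⟨G.lt_iff_lt.mp hxy.lt, fun z hz1 hz2 => hxy.2 (G.strictMono hz1) (G.strictMono hz2)⟩
    exact hG.2 s' t' (G.injective ((hc 0).trans ((congrArg g h0).trans (hd 0).symm)))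
      (G.injective ((hc (Fin.last _)).trans ((congrArg g h1).trans (hd (Fin.last _)).symm)))
      (fun i => hpull (by show G (c _) ⋖ G (c _); rw [hc, hc]; exact hgcov _ _ (hs i)))
      (fun i => hpull (by show G (d _) ⋖ G (d _); rw [hd, hd]; exact hgcov _ _ (ht i)))

end Groth.Agent.UCat
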