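import Groth.Prelude.Def_Found
import Groth.Agent.Lib.Goren.CMHeight27
import Mathlib

/-! # Cohen-Macaulay rings are catenary -/

set_option autoImplicit false
universe u

open IsLocalRing Order

namespace Groth.Agent.UCat

theorem isCatenary_of_grading {R : Type u} [CommRing R] (δ : PrimeSpectrum R → ℤ)
    (hmono : ∀ a b, a < b → δ a < δ b) (hcov : ∀ a b, a ⋖ b → δ b = δ a + 1) : CAlg.IsCatenary R := by
  have hlen : ∀ s : LTSeries (PrimeSpectrum R), δ s.head + s.length ≤ δ s.last := fun s => by
    exact LTSeries.head_add_length_le_int (s.map δ fun a b h => hmono a b h)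
  have hsat : ∀ s : LTSeries (PrimeSpectrum R), (∀ i : Fin s.length, s (Fin.castSucc i) ⋖ s (Fin.succ i)) →
      δ s.last = δ s.head + s.length := by
    intro s hs
    have key : ∀ i : Fin (s.length + 1), δ (s i) = δ s.head + (i : ℕ) := by
      intro i
      induction i using Fin.induction with
      | zero => simp [RelSeries.head]
      | succ i ih => rw [hcov _ _ (hs i), ih, Fin.val_succ, Fin.val_castSucc]; push_cast; ring
    simpa [RelSeries.last] using key (Fin.last _)
  refine ⟨fun p q _ => ⟨(δ q - δ p).toNat, fun s h1 h2 => ?_⟩, fun s t h0 h1 hs ht => ?_⟩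
  · have := hlen s
    rw [h1, h2] at this
    omega
  · have e1 := hsat s hs
    have e2 := hsat t ht
    rw [h0, h1] at e1
    omega

theorem height_eq_height_add_one {R : Type u} [CommRing R] [LocCoh.IsCohenMacaulayRing R]
    {p q : PrimeSpectrum R} (h : p ⋖ q) : q.asIdeal.height = p.asIdeal.height + 1 := by
  let S := Localization.AtPrime q.asIdeal
  haveI : LocCoh.IsCohenMacaulayLocalRing S :=
    LocCoh.IsCohenMacaulayRing.isCohenMacaulayLocalRing_localization q.asIdeal
  have hd : Disjoint (q.asIdeal.primeCompl : Set R) (p.asIdeal : Set R) :=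
    Set.disjoint_left.mpr fun a ha hap => ha (h.le hap)
  let p' : PrimeSpectrum S :=
    ⟨p.asIdeal.map (algebraMap R S), IsLocalization.isPrime_of_isPrime_disjoint q.asIdeal.primeCompl S _ p.2 hd⟩
  have hc : PrimeSpectrum.comap (algebraMap R S) p' = p := PrimeSpectrum.ext
    (IsLocalization.under_map_of_isPrime_disjoint q.asIdeal.primeCompl S p.2 hd)
  have hm : PrimeSpectrum.comap (algebraMap R S) (IsLocalRing.closedPoint S) = q :=
    PrimeSpectrum.ext (IsLocalization.AtPrime.under_maximalIdeal S q.asIdeal)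
  let e : PrimeSpectrum S ↪o PrimeSpectrum R := OrderEmbedding.ofMapLEIff (PrimeSpectrum.comap (algebraMap R S))
    fun a b => (IsLocalization.orderEmbedding q.asIdeal.primeCompl S).le_iff_le (a := a.asIdeal) (b := b.asIdeal)
  have hlt : p' < IsLocalRing.closedPoint S := e.lt_iff_lt.mp (lt_of_eq_of_lt hc (lt_of_lt_of_eq h.lt hm.symm))
  have hle : ∀ x : PrimeSpectrum S, x ≤ IsLocalRing.closedPoint S := fun x => le_maximalIdeal x.2.ne_top
  have hcov : p' ⋖ IsLocalRing.closedPoint S := ⟨hlt, fun y hy1 hy2 =>
    h.2 (lt_of_eq_of_lt hc.symm (e.strictMono hy1)) (lt_of_lt_of_eq (e.strictMono hy2) hm)⟩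
  have hco : coheight p' = 1 := by
    refine le_antisymm (coheight_le fun s hs => ?_) ?_
    · by_contra hl
      have hl' : 1 < s.length := by exact_mod_cast not_le.mp hl
      have h1 : s ⟨0, by omega⟩ < s ⟨1, by omega⟩ := s.strictMono Nat.zero_lt_one
      have h2 : s ⟨1, by omega⟩ < s ⟨2, by omega⟩ := s.strictMono Nat.one_lt_two
      exact hcov.2 (lt_of_eq_of_lt hs.symm h1) (h2.trans_le (hle _))
    · rw [Order.one_le_iff_pos]
      exact Order.coheight_pos.mpr fun hmax => hlt.not_ge (hmax hlt.le)
  have hdim := GorenLib.ringKrullDim_eq_quotient_add_height p'.asIdeal p'.2.ne_top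
  have hq : ringKrullDim (S ⧸ p'.asIdeal) = 1 := by
    rw [ringKrullDim_quotient]
    exact ((Order.coheight_eq_krullDim_Ici (x := p')).trans
      (Order.krullDim_eq_of_orderIso (OrderIso.setCongr (Set.Ici p') _ rfl))).symm.trans (congrArg _ hco)
  rw [IsLocalization.AtPrime.ringKrullDim_eq_height q.asIdeal S, hq,
    show p'.asIdeal.height = p.asIdeal.height from IsLocalization.height_map_of_disjoint q.asIdeal.primeCompl p.asIdeal hd,
    add_comm] at hdim
  exact_mod_cast hdim

theorem isCatenary_of_cm (R : Type u) [CommRing R] [LocCoh.IsCohenMacaulayRing R] : CAlg.IsCatenary R := by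
  haveI : IsNoetherianRing R := inferInstance
  have hfin : ∀ a : PrimeSpectrum R, (a.asIdeal.height.toNat : ℕ∞) = a.asIdeal.height := fun a =>
    ENat.coe_toNat Ideal.height_ne_top_of_isPrime
  refine isCatenary_of_grading (fun a => (a.asIdeal.height.toNat : ℤ)) (fun a b h => ?_) fun a b h => ?_
  · have h1 : a.asIdeal.height < b.asIdeal.height := Ideal.height_strict_mono_of_isPrime h
    rw [← hfin a, ← hfin b] at h1
    exact_mod_cast h1
  · have h1 := height_eq_height_add_one h
    rw [← hfin a, ← hfin b] at h1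
    exact_mod_cast h1

end Groth.Agent.UCat
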