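import Groth.Agent.Lib.UCat.Grading
import Groth.Agent.Lib.Hironaka.Main
import Groth.Agent.Lib.Hironaka.RkLift
import Groth.Agent.Lib.FlatDepth.FibreStalk
import Groth.Agent.Lib.FlatDepth.Rings
import Groth.Prelude.Def_EGA4b
import Mathlib

/-! # Equidimensionality and catenarity descend along flat local homomorphisms -/

set_option autoImplicit false
universe u

open IsLocalRing Order TensorProduct

namespace Groth.Agent.UCat

/-- Minimal primes over `I` have quotients of the same dimension as `R ⧸ I`. -/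
def EquidimOver {R : Type u} [CommRing R] (I : Ideal R) : Prop :=
  ∀ P ∈ I.minimalPrimes, ringKrullDim (R ⧸ P) = ringKrullDim (R ⧸ I)

theorem isEquidim_quotient_iff {R : Type u} [CommRing R] (I : Ideal R) :
    EGA4.IsEquidim (R ⧸ I) ↔ EquidimOver I := by
  have e : ∀ Q : Ideal (R ⧸ I), ringKrullDim ((R ⧸ I) ⧸ Q) = ringKrullDim (R ⧸ Q.comap (Ideal.Quotient.mk I)) := fun Q => by
    have hle : I ≤ Q.comap (Ideal.Quotient.mk I) := fun x hx => by
      rw [Ideal.mem_comap, Ideal.Quotient.eq_zero_iff_mem.mpr hx]; exact Q.zero_mem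
    rw [← ringKrullDim_eq_of_ringEquiv (DoubleQuot.quotQuotEquivQuotOfLE hle),
      ← ringKrullDim_eq_of_ringEquiv (Ideal.quotEquivOfEq (Ideal.map_comap_of_surjective _ Ideal.Quotient.mk_surjective Q))]
  rw [EquidimOver, Ideal.minimalPrimes_eq_comap]
  refine ⟨?_, fun h Q hQ => ?_⟩
  · rintro h _ ⟨Q, hQ, rfl⟩
    rw [← e]
    exact h Q hQ
  · rw [e]
    exact h _ ⟨Q, hQ, rfl⟩

section flat

variable {A B : Type u} [CommRing A] [CommRing B] [Algebra A B] [IsNoetherianRing A] [IsNoetherianRing B]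
  [Module.Flat A B]

omit [IsNoetherianRing A] [IsNoetherianRing B] in
/-- Going down: a prime over a prime of the base below. -/
theorem exists_le_comap_eq {q : Ideal B} [q.IsPrime] (p : Ideal A) [p.IsPrime]
    (h : p ≤ q.comap (algebraMap A B)) : ∃ P ≤ q, P.IsPrime ∧ P.comap (algebraMap A B) = p := by
  haveI : q.LiesOver (q.comap (algebraMap A B)) := ⟨rfl⟩
  obtain ⟨P, hle, hP, hover⟩ := Ideal.exists_ideal_le_liesOver_of_le (R := A) q h
  exact ⟨P, hle, hP, hover.over.symm⟩

omit [IsNoetherianRing A] [IsNoetherianRing B] in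
/-- Primes minimal over `pB` lie over `p`. -/
theorem comap_eq_of_mem_minimalPrimes_map {p : Ideal A} [p.IsPrime] {q : Ideal B}
    (hq : q ∈ (p.map (algebraMap A B)).minimalPrimes) : q.comap (algebraMap A B) = p := by
  haveI := hq.isPrime
  have hle : p ≤ q.comap (algebraMap A B) := Ideal.map_le_iff_le_comap.mp hq.1.2
  obtain ⟨P, hPq, hP, hPp⟩ := exists_le_comap_eq p hle
  have := hq.2 ⟨hP, Ideal.map_le_iff_le_comap.mpr hPp.ge⟩ hPq
  rwa [le_antisymm hPq this] at hPp

omit [IsNoetherianRing A] [IsNoetherianRing B] in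
/-- Minimal primes over `aB` lie over minimal primes over `a`. -/
theorem comap_mem_minimalPrimes {a : Ideal A} {q : Ideal B}
    (hq : q ∈ (a.map (algebraMap A B)).minimalPrimes) :
    q.comap (algebraMap A B) ∈ a.minimalPrimes ∧
      q ∈ ((q.comap (algebraMap A B)).map (algebraMap A B)).minimalPrimes := by
  haveI := hq.isPrime
  refine ⟨⟨⟨inferInstance, Ideal.map_le_iff_le_comap.mp hq.1.2⟩, fun p hp hple => ?_⟩,
    ⟨⟨hq.isPrime, Ideal.map_comap_le⟩, fun Q hQ hQq => hq.2 ⟨hQ.1,
      (Ideal.map_mono (Ideal.map_le_iff_le_comap.mp hq.1.2)).trans hQ.2⟩ hQq⟩⟩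
  haveI := hp.1
  obtain ⟨P, hPq, hP, hPp⟩ := exists_le_comap_eq p hple
  have h1 : a.map (algebraMap A B) ≤ P := Ideal.map_le_iff_le_comap.mpr (hPp.symm ▸ hp.2)
  rw [← hPp]
  exact Ideal.comap_mono (hq.2 ⟨hP, h1⟩ hPq)

omit [IsNoetherianRing A] [IsNoetherianRing B] in
theorem mem_minimalPrimes_of_map {a p : Ideal A} (hp : p ∈ a.minimalPrimes) {q : Ideal B}
    (hq : q ∈ (p.map (algebraMap A B)).minimalPrimes) : q ∈ (a.map (algebraMap A B)).minimalPrimes := by
  haveI := hp.isPrime
  refine ⟨⟨hq.isPrime, (Ideal.map_mono hp.1.2).trans hq.1.2⟩, fun Q hQ hQq => hq.2 ⟨hQ.1, ?_⟩ hQq⟩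
  haveI := hQ.1
  refine Ideal.map_le_iff_le_comap.mpr (hp.2 ⟨inferInstance, Ideal.map_le_iff_le_comap.mp hQ.2⟩ ?_)
  exact (Ideal.comap_mono hQq).trans (comap_eq_of_mem_minimalPrimes_map hq).le

/-- The height of a prime minimal over `pB` is that of `p`. -/
theorem height_eq_of_mem_minimalPrimes_map {p : Ideal A} [p.IsPrime] {q : Ideal B} [q.IsPrime]
    (hq : q ∈ (p.map (algebraMap A B)).minimalPrimes) : q.height = p.height := by
  obtain ⟨-, hdim⟩ := FlatDepth.ring_invariants (A := A) q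
  have h0 : ringKrullDim (EGA4.FibLocRing A B q) = 0 := by
    refine le_antisymm ?_ ringKrullDim_nonneg_of_nontrivial
    refine Order.krullDim_nonpos_iff_forall_isMax.2 fun P P' hle => ?_
    have key : ∀ R : PrimeSpectrum (EGA4.FibLocRing A B q),
        R.asIdeal.comap (Ideal.Quotient.mk _) = maximalIdeal (Localization.AtPrime q) := by
      intro R
      refine le_antisymm (le_maximalIdeal (Ideal.IsPrime.comap _).ne_top) ?_
      rw [← Localization.AtPrime.map_eq_maximalIdeal, Ideal.map_le_iff_le_comap]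
      refine hq.2 ⟨Ideal.IsPrime.comap _, ?_⟩ (fun b hb => by_contra fun hbq => ?_)
      · rw [Ideal.map_le_iff_le_comap]
        intro a ha
        show Ideal.Quotient.mk _ (algebraMap B (Localization.AtPrime q) (algebraMap A B a)) ∈ R.asIdeal
        rw [← IsScalarTower.algebraMap_apply, Ideal.Quotient.eq_zero_iff_mem.mpr]
        · exact R.asIdeal.zero_mem
        · exact Ideal.mem_map_of_mem _ (by rw [comap_eq_of_mem_minimalPrimes_map hq]; exact ha)
      · exact R.2.ne_top (Ideal.eq_top_of_isUnit_mem _ hb ((IsLocalization.map_units (Localization.AtPrime q)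
          (⟨b, hbq⟩ : q.primeCompl)).map _))
    exact (PrimeSpectrum.comap_injective_of_surjective (Ideal.Quotient.mk _) Ideal.Quotient.mk_surjective
      (show PrimeSpectrum.comap (Ideal.Quotient.mk _) P' = PrimeSpectrum.comap (Ideal.Quotient.mk _) P from
        PrimeSpectrum.ext ((key P').trans (key P).symm))).le
  rw [h0, add_zero, IsLocalization.AtPrime.ringKrullDim_eq_height q,
    IsLocalization.AtPrime.ringKrullDim_eq_height (q.comap (algebraMap A B))] at hdim
  rw [← comap_eq_of_mem_minimalPrimes_map hq]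
  exact WithBot.coe_le_coe.mp hdim.le |>.antisymm (WithBot.coe_le_coe.mp hdim.ge)

end flat

/-- In an equidimensional catenary Noetherian local ring `height + coheight = dim`. -/
theorem height_add_coheight {B : Type u} [CommRing B] [IsLocalRing B] [IsNoetherianRing B]
    (heq : EGA4.IsEquidim B) (hcat : CAlg.IsCatenary B) :
    ∃ D : ℕ, ringKrullDim B = (D : WithBot ℕ∞) ∧
      ∀ P : PrimeSpectrum B, Order.height P + Order.coheight P = (D : ℕ∞) := by
  obtain ⟨D, hD⟩ := DepthLib.exists_supportDim_eq_natCast (R := B) (M := B)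
  rw [Module.supportDim_self_eq_ringKrullDim] at hD
  refine ⟨D, hD, fun P => ?_⟩
  have hfin : Order.height P ≠ ⊤ := by
    rw [← PrimeSpectrum.height_eq_orderHeight]; exact Ideal.height_ne_top_of_isPrime
  obtain ⟨n, hn⟩ := ENat.ne_top_iff_exists.mp hfin
  refine Hironaka.height_add_coheight hcat (fun q hq => ?_) n P hn.symm
  have := (Hironaka.ringKrullDim_quotient_eq_coheight q).symm.trans ((heq _ hq).trans hD)
  exact WithBot.coe_inj.mp this

theorem ringKrullDim_quotient_eq_of_forall {R : Type u} [CommRing R] {I : Ideal R} (hI : I ≠ ⊤) {d : WithBot ℕ∞}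
    (h : ∀ P ∈ I.minimalPrimes, ringKrullDim (R ⧸ P) = d) : ringKrullDim (R ⧸ I) = d := by
  obtain ⟨M, hM, hIM⟩ := Ideal.exists_le_maximal I hI
  obtain ⟨P₀, hP₀, -⟩ := Ideal.exists_minimalPrimes_le hIM
  refine le_antisymm ?_ ?_
  · rw [ringKrullDim_quotient, Order.krullDim]
    refine iSup_le fun s => ?_
    have hs : I ≤ s.head.1.asIdeal := s.head.2
    obtain ⟨P, hP, hPs⟩ := Ideal.exists_minimalPrimes_le hs
    haveI := hP.isPrime
    rw [← h P hP, ← Hironaka.coheight_eq_ringKrullDim_quotient ⟨P, hP.isPrime⟩]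
    refine WithBot.coe_le_coe.mpr ?_
    refine le_trans ?_ (Order.length_le_coheight (p := s.map Subtype.val (fun _ _ hab => hab)) ?_)
    · exact le_rfl
    · exact hPs
  · rw [← h P₀ hP₀]
    exact ringKrullDim_le_of_surjective (Ideal.Quotient.factor hP₀.1.2) (Ideal.Quotient.factor_surjective _)

section localFlat

variable {A B : Type u} [CommRing A] [CommRing B] [IsNoetherianRing A] [IsNoetherianRing B] [IsLocalRing A]
  [IsLocalRing B] [Algebra A B] [IsLocalHom (algebraMap A B)] [Module.Flat A B]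

theorem dim_quotient_map (I : Ideal A) (hI : I ≠ ⊤) :
    ringKrullDim (B ⧸ I.map (algebraMap A B)) = ringKrullDim (A ⧸ I) + ringKrullDim (EGA4.FibRing A B) := by
  haveI : Nontrivial (A ⧸ I) := Ideal.Quotient.nontrivial_iff.mpr hI
  have h := FlatDepth.supportDim_tensor (R := A) (S := B) (N := B) (A ⧸ I)
  let e : ∀ J : Ideal A, B ⊗[A] (A ⧸ J) ≃ₗ[B] B ⧸ J.map (algebraMap A B) := fun J =>
    (FlatDepth.tensorQuotEquiv B J).trans
      (Submodule.quotEquivOfEq _ _ (by rw [Ideal.smul_eq_mul, Ideal.mul_top]))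
  rwa [Module.supportDim_eq_of_equiv (e I), Module.supportDim_eq_of_equiv (e (maximalIdeal A)),
    Module.supportDim_quotient_eq_ringKrullDim, Module.supportDim_quotient_eq_ringKrullDim,
    Module.supportDim_quotient_eq_ringKrullDim] at h

omit [IsNoetherianRing A] [IsNoetherianRing B] [Module.Flat A B] in
theorem map_ne_top {I : Ideal A} (hI : I ≠ ⊤) : I.map (algebraMap A B) ≠ ⊤ :=
  ne_top_of_le_ne_top (maximalIdeal.isMaximal B).ne_top
    ((Ideal.map_mono (le_maximalIdeal hI)).trans (map_maximalIdeal_le _))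

omit [IsNoetherianRing A] [IsNoetherianRing B] [Module.Flat A B] in
theorem exists_minimalPrime_map (p : Ideal A) (hp : p ≠ ⊤) :
    ∃ q, q ∈ (p.map (algebraMap A B)).minimalPrimes := by
  obtain ⟨q, hq, -⟩ := Ideal.exists_minimalPrimes_le (le_maximalIdeal (map_ne_top (B := B) hp))
  exact ⟨q, hq⟩

theorem dim_quotient_of_minimal (heq : EGA4.IsEquidim B) (hcat : CAlg.IsCatenary B)
    {p : Ideal A} [p.IsPrime] {q : Ideal B} (hq : q ∈ (p.map (algebraMap A B)).minimalPrimes) :
    ringKrullDim (B ⧸ q) = ringKrullDim (A ⧸ p) + ringKrullDim (EGA4.FibRing A B) := by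
  obtain ⟨D, -, hsum⟩ := height_add_coheight heq hcat
  rw [← dim_quotient_map p (Ideal.IsPrime.ne_top ‹_›)]
  refine (ringKrullDim_quotient_eq_of_forall (map_ne_top (Ideal.IsPrime.ne_top ‹_›)) fun Q hQ => ?_).symm
  haveI := hQ.isPrime
  haveI := hq.isPrime
  rw [← Hironaka.coheight_eq_ringKrullDim_quotient ⟨Q, hQ.isPrime⟩,
    ← Hironaka.coheight_eq_ringKrullDim_quotient ⟨q, hq.isPrime⟩]
  congr 1
  have h1 := hsum ⟨Q, hQ.isPrime⟩
  have h2 := hsum ⟨q, hq.isPrime⟩
  rw [← PrimeSpectrum.height_eq_orderHeight] at h1 h2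
  rw [height_eq_of_mem_minimalPrimes_map hQ] at h1
  rw [height_eq_of_mem_minimalPrimes_map hq] at h2
  exact WithTop.add_left_cancel (Ideal.height_ne_top_of_isPrime (I := p)) (h1.trans h2.symm)

/-- EGA IV 7.1.3: descent of equidimensionality and catenarity. -/
theorem isEquidim_and_isCatenary_of_flat (heq : EGA4.IsEquidim B) (hcat : CAlg.IsCatenary B) :
    EGA4.IsEquidim A ∧ CAlg.IsCatenary A := by
  obtain ⟨e, he⟩ := DepthLib.exists_supportDim_eq_natCast (R := EGA4.FibRing A B) (M := EGA4.FibRing A B)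
  rw [Module.supportDim_self_eq_ringKrullDim] at he
  refine ⟨fun p hp => ?_, ?_⟩
  · haveI := hp.isPrime
    obtain ⟨q, hq⟩ := exists_minimalPrime_map (B := B) p hp.isPrime.ne_top
    have hq0 : q ∈ minimalPrimes B := by
      have := mem_minimalPrimes_of_map (B := B) (a := ⊥) hp hq
      rwa [Ideal.map_bot] at this
    have h2 := (FlatDepth.ring_fibre_invariants (A := A) (B := B)).2
    rw [← heq q hq0, dim_quotient_of_minimal heq hcat hq, he] at h2
    obtain ⟨a, ha⟩ := DepthLib.exists_supportDim_eq_natCast (R := A ⧸ p) (M := A ⧸ p)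
    obtain ⟨b, hb⟩ := DepthLib.exists_supportDim_eq_natCast (R := A) (M := A)
    rw [Module.supportDim_self_eq_ringKrullDim] at ha hb
    rw [ha, hb] at h2 ⊢
    norm_cast at h2 ⊢
    omega
  · haveI : IsLocalRing A := inferInstance
    have hfin : ∀ a : PrimeSpectrum A, ((Order.coheight a).toNat : ℕ∞) = Order.coheight a := fun a =>
      ENat.natCast_toNat (Hironaka.coheight_ne_top a)
    refine isCatenary_of_grading (fun a => -((Order.coheight a).toNat : ℤ)) (fun a b h => ?_) fun a b h => ?_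
    · have h1 := Order.coheight_strictAnti h (Hironaka.coheight_ne_top b).lt_top
      rw [← hfin a, ← hfin b] at h1
      have : (Order.coheight b).toNat < (Order.coheight a).toNat := by exact_mod_cast h1
      omega
    obtain ⟨t, htb, hta⟩ := SetLike.exists_of_lt (show a.asIdeal < b.asIdeal from h.lt)
    obtain ⟨q', hq'⟩ := exists_minimalPrime_map (B := B) b.asIdeal b.2.ne_top
    haveI := hq'.isPrime
    have hq'b := comap_eq_of_mem_minimalPrimes_map hq'
    obtain ⟨p', hp', hp'q'⟩ : ∃ p', p' ∈ (a.asIdeal.map (algebraMap A B)).minimalPrimes ∧ p' ≤ q' :=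
      Ideal.exists_minimalPrimes_le (Ideal.map_le_iff_le_comap.mpr ((show a.asIdeal ≤ b.asIdeal from h.le).trans hq'b.ge))
    have hp'a := comap_eq_of_mem_minimalPrimes_map hp'
    have hcov : (⟨p', hp'.isPrime⟩ : PrimeSpectrum B) ⋖ ⟨q', hq'.isPrime⟩ := by
      refine Hironaka.covBy_of_mem_minimalPrimes (t := algebraMap A B t)
        (fun hmem => hta (by rw [← hp'a]; exact hmem)) ⟨⟨hq'.isPrime, sup_le hp'q' ?_⟩, fun Q hQ hQq => ?_⟩
      · rw [Ideal.span_singleton_le_iff_mem]
        show t ∈ q'.comap (algebraMap A B)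
        rw [hq'b]; exact htb
      haveI := hQ.1
      refine hq'.2 ⟨hQ.1, Ideal.map_le_iff_le_comap.mpr ?_⟩ hQq
      by_contra hne
      let c : PrimeSpectrum A := ⟨Q.comap (algebraMap A B), inferInstance⟩
      refine h.2 (c := c) (lt_of_le_of_ne ?_ fun hac => hta ?_) (lt_of_le_of_ne ?_ fun hcb => hne ?_)
      · show a.asIdeal ≤ Q.comap (algebraMap A B)
        rw [← hp'a]
        exact Ideal.comap_mono (le_sup_left.trans hQ.2)
      · rw [show a.asIdeal = Q.comap (algebraMap A B) from congrArg PrimeSpectrum.asIdeal hac]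
        exact hQ.2 (Ideal.mem_sup_right (Ideal.mem_span_singleton_self _))
      · show Q.comap (algebraMap A B) ≤ b.asIdeal
        rw [← hq'b]
        exact Ideal.comap_mono hQq
      · exact (congrArg PrimeSpectrum.asIdeal hcb).ge
    have h1 := Hironaka.coheight_eq_add_one hcat hcov
    have h2 : (Order.coheight (⟨p', hp'.isPrime⟩ : PrimeSpectrum B) : WithBot ℕ∞) =
        (Order.coheight a : WithBot ℕ∞) + (e : WithBot ℕ∞) := by
      rw [Hironaka.coheight_eq_ringKrullDim_quotient, Hironaka.coheight_eq_ringKrullDim_quotient, ← he]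
      exact dim_quotient_of_minimal heq hcat hp'
    have h3 : (Order.coheight (⟨q', hq'.isPrime⟩ : PrimeSpectrum B) : WithBot ℕ∞) =
        (Order.coheight b : WithBot ℕ∞) + (e : WithBot ℕ∞) := by
      rw [Hironaka.coheight_eq_ringKrullDim_quotient, Hironaka.coheight_eq_ringKrullDim_quotient, ← he]
      exact dim_quotient_of_minimal heq hcat hq'
    obtain ⟨a', ha'⟩ := ENat.ne_top_iff_exists.mp (Hironaka.coheight_ne_top a)
    obtain ⟨b', hb'⟩ := ENat.ne_top_iff_exists.mp (Hironaka.coheight_ne_top b)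
    rw [h1, WithBot.coe_add, h3, ← ha', ← hb'] at h2
    simp only [← ha', ← hb', ENat.toNat_natCast]
    norm_cast at h2
    omega

/-- EGA IV 7.1.3: the case of a zero-dimensional closed fibre. -/
theorem equidimOver_map_iff (heq : EGA4.IsEquidim B) (hcat : CAlg.IsCatenary B)
    (h0 : ringKrullDim (EGA4.FibRing A B) = 0) (I : Ideal A) :
    EquidimOver (I.map (algebraMap A B)) ↔ EquidimOver I := by
  by_cases hI : I = ⊤
  · subst hI
    rw [Ideal.map_top]
    constructor <;> exact fun _ P hP => absurd (top_le_iff.mp hP.1.2) hP.isPrime.ne_top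
  refine ⟨fun h P hP => ?_, fun h Q hQ => ?_⟩
  · haveI := hP.isPrime
    obtain ⟨Q, hQ⟩ := exists_minimalPrime_map (B := B) P hP.isPrime.ne_top
    have := h Q (mem_minimalPrimes_of_map hP hQ)
    rwa [dim_quotient_of_minimal heq hcat hQ, dim_quotient_map I hI, h0, add_zero, add_zero] at this
  · obtain ⟨h1, h2⟩ := comap_mem_minimalPrimes hQ
    haveI := hQ.isPrime
    rw [dim_quotient_of_minimal heq hcat h2, dim_quotient_map I hI, h _ h1]

end localFlat

end Groth.Agent.UCat
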