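import Groth.Agent.Lib.UCat.Flat
import Groth.Agent.Lib.UCat.Universal
import Groth.Agent.Lib.FlatDepth.CplQuot
import Groth.Agent.Lib.CplLocH7.Basic
import Mathlib

/-! # Formal equidimensionality -/

set_option autoImplicit false
universe u

open IsLocalRing

namespace Groth.Agent.UCat

theorem isEquidim_congr {R S : Type u} [CommRing R] [CommRing S] (e : R ≃+* S) :
    EGA4.IsEquidim R → EGA4.IsEquidim S := by
  intro h q hq
  haveI := hq.isPrime
  have hq' : q.comap e.toRingHom ∈ minimalPrimes R := by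
    refine ⟨⟨Ideal.IsPrime.comap _, bot_le⟩, fun P hP hPq => ?_⟩
    haveI := hP.1
    have h1 : (P.comap e.symm.toRingHom) ≤ q := fun x hx => by
      have h3 : e (e.symm x) ∈ q := hPq hx
      rwa [e.apply_symm_apply] at h3
    have h2 := hq.2 ⟨Ideal.IsPrime.comap _, bot_le⟩ h1
    intro x hx
    have := h2 hx
    simpa using this
  rw [← ringKrullDim_eq_of_ringEquiv e, ← h _ hq']
  exact (ringKrullDim_eq_of_ringEquiv (Ideal.quotientEquiv (q.comap e.toRingHom) q e
    (Ideal.map_comap_of_surjective _ e.surjective q).symm)).symm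

theorem isEquidim_congr_iff {R S : Type u} [CommRing R] [CommRing S] (e : R ≃+* S) :
    EGA4.IsEquidim R ↔ EGA4.IsEquidim S := ⟨isEquidim_congr e, isEquidim_congr e.symm⟩

theorem isEquidim_quotient_bot {R : Type u} [CommRing R] : EquidimOver (⊥ : Ideal R) ↔ EGA4.IsEquidim R := by
  rw [← isEquidim_quotient_iff, isEquidim_congr_iff (RingEquiv.quotientBot R)]

section cpl

variable (A : Type u) [CommRing A] [IsNoetherianRing A] [IsLocalRing A]

theorem isCatenary_cpl : CAlg.IsCatenary (EGA4.Cpl A) := by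
  haveI := CplLocH7.isNoetherianRing_cpl A
  haveI : IsAdicComplete (maximalIdeal (EGA4.Cpl A)) (EGA4.Cpl A) := inferInstance
  exact isCatenary_of_isUniversallyCatenary (isUniversallyCatenary_of_complete _)

theorem isLocalHom_cpl : IsLocalHom (algebraMap A (EGA4.Cpl A)) := by
  haveI := CplLocH7.isNoetherianRing_cpl A
  refine ((IsLocalRing.local_hom_TFAE _).out 0 2).mpr ?_
  rw [CplLocH7.maximalIdeal_cpl]

theorem ringKrullDim_fibRing_cpl : ringKrullDim (EGA4.FibRing A (EGA4.Cpl A)) = 0 := by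
  haveI := CplLocH7.isNoetherianRing_cpl A
  refine ringKrullDim_eq_zero_of_isField ((Ideal.Quotient.maximal_ideal_iff_isField_quotient _).mp ?_)
  rw [show EGA4.mB A (EGA4.Cpl A) = maximalIdeal (EGA4.Cpl A) from (CplLocH7.maximalIdeal_cpl A).symm]
  infer_instance

theorem isEquidim_and_isCatenary_of_formallyEquidim (h : EGA4.IsFormallyEquidim A) :
    EGA4.IsEquidim A ∧ CAlg.IsCatenary A := by
  haveI := CplLocH7.isNoetherianRing_cpl A
  haveI := CplLocH7.faithfullyFlat_cpl A
  haveI := isLocalHom_cpl A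
  exact isEquidim_and_isCatenary_of_flat (B := EGA4.Cpl A) h (isCatenary_cpl A)

theorem formallyEquidim_quotient_iff (h : EGA4.IsFormallyEquidim A) (a : Ideal A) [Nontrivial (A ⧸ a)] :
    EGA4.IsEquidim (A ⧸ a) ↔ EGA4.IsFormallyEquidim (A ⧸ a) := by
  haveI := CplLocH7.isNoetherianRing_cpl A
  haveI := CplLocH7.faithfullyFlat_cpl A
  haveI := isLocalHom_cpl A
  let π := FlatDepth.cplQuotHom A (A ⧸ a) Ideal.Quotient.mk_surjective
  have hπ : Function.Surjective π := FlatDepth.cplQuotHom_surjective A (A ⧸ a) Ideal.Quotient.mk_surjective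
  have hk : RingHom.ker π = a.map (algebraMap A (EGA4.Cpl A)) := by
    rw [FlatDepth.ker_cplQuotHom A (A ⧸ a) Ideal.Quotient.mk_surjective, Ideal.Quotient.algebraMap_eq, Ideal.mk_ker]
  rw [isEquidim_quotient_iff, ← equidimOver_map_iff (B := EGA4.Cpl A) h (isCatenary_cpl A)
    (ringKrullDim_fibRing_cpl A) a, ← isEquidim_quotient_iff]
  exact isEquidim_congr_iff ((Ideal.quotEquivOfEq hk.symm).trans (RingHom.quotientKerEquivOfSurjective hπ))

end cpl

end Groth.Agent.UCat
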